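import Cfsg.Agent.Lib.AltSections.Enum
import Cfsg.Agent.Lib.AltSections.Two.B
import Cfsg.Agent.Lib.AltSections.Two.P1

/-! The Sylow `2`-subgroup used by the certificates has order 64. -/

set_option autoImplicit false

namespace Cfsg.Agent.AltSections.Two.B

open Cfsg.Agent.AltSections.Code

theorem complete_eq : data.S.complete 9 [0x33003d003e002f003a003b00270025003600370020001e003f001a00220028003c002c0026002e00240015001300300039002d0038002b000e003100170035001400340012000a00100032000d000c0021000f002a001f0029001d0005001b00160023001900180006001c000400030002000b001100090008000700000001, 0x32002f003c003d00270039003a0023002000350036001c001a003f001b0017003e00150014002a0012002c00110021003b001f000e001d00380010002800370026000a00240034003100330009000800300006002e002d0005002b00290022000b002500040003000f001e00190018000100160013000d000c000000070002, 0x38003b003a0039003e003d003c003f002e002c002a0029002500230019002d00270037003000360016003500340026002f00280033000f0032000d001f001500210013000b00110009000e003100070014002b00200017001e0006001c00040024001a00220002001d0005001b000100180012000a00100000000c00080003, 0x34002e002c002a0037003600350029003b003a0039003f001e001c001800160015003e002b003d002d003c0038000f00200024001300260011000c000b0027001d0033001f00320008000a0007003100060030002f0012002500140023000300280005000200220021001a0001001b00190017000e00000010000d00090004,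 0x310030002d002b00280026002400220021001f001d001b00190018003f003e00160017003d0014003c00120010003b000f003a000d0039000c00380037000b00360009003500080034000700330032002e002f0006002c0004002a00030029002700020025002300200001001e001c001a0015000000130011000e000a0005, 0x3e003f00330032003800250023003b0034001e001c0037003d003c00300031001a00290019001300180011002e0022000e000d003a000c00390028001b000a00090036000800350021002f002d002b0010000700050004002c0003002a0017000200270026002400010020001f001d00160000001500140012000f000b0006] 0x1000200070006000b0016000f0012001d002b002400030008000c001800040009000d001900170021003000280014001f002d00260010001b002200310005000a000e001a00150020002f0027002a0035003c00390011001c002300320013001e00250033002e0037003e003b002c0036003d003a002900340038003f = true := by decide +kernel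

theorem natCard_eq : Nat.card (span 9 data.S.gens) = 2 ^ 6 := GData.natCard_span complete_eq

/-- The permutation conjugating `P1` to `P3`. -/
def tau : ℕ := 36093309456

theorem tau_conj : (List.range P1.data.S.gens.length).all (fun i =>
    sq 9 tau (P1.data.S.gens.getD i 0) ([36344963841, 36344959026, 36092326416, 35524129296, 34948015956, 36343984641, 36061844256].getD i 0) tau) = true := by decide +kernel

end Cfsg.Agent.AltSections.Two.B
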