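import Cfsg.Agent.Lib.AltSections.Two.P13
import Cfsg.Agent.Lib.AltSections.Two.P2
import Cfsg.Agent.Lib.AltSections.Two.P1
import Cfsg.Agent.Lib.AltSections.Two.B
import Cfsg.Agent.Lib.AltSections.Two.BGroup

/-!
# Modules over the field with two elements for `S₉`

Some non-zero vector is fixed by a non-solvable subgroup.
-/

set_option autoImplicit false

namespace Cfsg.Agent.AltSections.Two

open Matrix Cfsg.Agent.AltSections.Code Cfsg.Agent.AltSections.Cert Cfsg.Agent.AltSections.CertTwo

variable {m : ℕ} {ρ : Equiv.Perm (Fin 9) →* Matrix (Fin m) (Fin m) (ZMod 2)}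

theorem zero_P13 (h : NoFix ρ) : Zero ρ (span 9 P13.data.S.gens) :=
  check_sound ρ P13.data_eq P13.check_eq fun F hF => by
    simp only [P13.fixers, List.mem_cons, List.not_mem_nil, or_false] at hF
    rcases hF with rfl | rfl | rfl
    · exact h.zero P13.fixer0
    · exact h.zero P13.fixer1
    · exact h.zero P13.fixer2

theorem zero_P2 (h : NoFix ρ) : Zero ρ (span 9 P2.data.S.gens) :=
  check_sound ρ P2.data_eq P2.check_eq fun F hF => by
    simp only [P2.fixers, List.mem_cons, List.not_mem_nil, or_false] at hF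
    rcases hF with rfl | rfl | rfl | rfl
    · exact h.zero P2.fixer0
    · exact h.zero P2.fixer1
    · exact h.zero P2.fixer2
    · exact h.zero P2.fixer3

theorem zero_P1 (h : NoFix ρ) : Zero ρ (span 9 P1.data.S.gens) :=
  check_sound ρ P1.data_eq P1.check_eq fun F hF => by
    simp only [P1.fixers, List.mem_cons, List.not_mem_nil, or_false] at hF
    rcases hF with rfl | rfl | rfl | rfl
    · exact zero_P13 h
    · exact h.zero P1.fixer1
    · exact h.zero P1.fixer2
    · exact h.zero P1.fixer3

theorem zero_B (h : NoFix ρ) : Zero ρ (span 9 B.data.S.gens) :=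
  check_sound ρ B.data_eq B.check_eq fun F hF => by
    simp only [B.fixers, List.mem_cons, List.not_mem_nil, or_false] at hF
    rcases hF with rfl | rfl | rfl | rfl
    · exact zero_P1 h
    · exact zero_P2 h
    · refine ((zero_P1 h).conj (toPerm 9 B.tau)).mono ?_
      rw [Subgroup.map_le_iff_le_comap, span, Subgroup.closure_le]
      rintro _ ⟨c, hc, rfl⟩
      obtain ⟨i, hi, rfl⟩ := List.getElem_of_mem hc
      have hall := B.tau_conj
      simp only [List.all_eq_true, List.mem_range] at hall
      have e := sq_spec (hall i hi)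
      rw [List.getD_eq_getElem _ _ hi] at e
      simp only [Subgroup.coe_comap, Set.mem_preimage, MulEquiv.coe_toMonoidHom, MulAut.conj_apply,
        SetLike.mem_coe]
      rw [e, mul_inv_cancel_right]
      refine mem_span ?_
      have hi7 : i < 7 := hi
      rw [List.getD_eq_getElem _ _ hi7]
      exact List.getElem_mem hi7
    · exact h.zero B.fixer3

/-- No faithful assumption: every module has a non-zero vector fixed by a non-solvable subgroup. -/
theorem eq_zero (h : NoFix ρ) (v : Fin m → ZMod 2) : v = 0 := by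
  classical
  by_contra hv
  set P := span 9 B.data.S.gens with hP
  have hp : IsPGroup 2 P := IsPGroup.of_card B.natCard_eq
  letI : MulAction P (Fin m → ZMod 2) :=
    { smul := fun g w => ρ (g : Equiv.Perm (Fin 9)) *ᵥ w
      one_smul := fun w => by
        change ρ ((1 : P) : Equiv.Perm (Fin 9)) *ᵥ w = w
        simp
      mul_smul := fun a b w => by
        change ρ ((a * b : P) : Equiv.Perm (Fin 9)) *ᵥ w = ρ (a : Equiv.Perm (Fin 9)) *ᵥ (ρ (b : Equiv.Perm (Fin 9)) *ᵥ w)
        simp [Matrix.mulVec_mulVec] }
  have hdvd : 2 ∣ Nat.card (Fin m → ZMod 2) := by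
    cases m with
    | zero => exact absurd (Subsingleton.elim v 0) hv
    | succ m => simp [Nat.card_eq_fintype_card, pow_succ]
  haveI : Fact (Nat.Prime 2) := ⟨Nat.prime_two⟩
  have h0 : (0 : Fin m → ZMod 2) ∈ MulAction.fixedPoints P (Fin m → ZMod 2) := fun g =>
    Matrix.mulVec_zero _
  obtain ⟨w, hw, hw0⟩ := hp.exists_fixed_point_of_prime_dvd_card_of_fixed_point _ hdvd h0
  exact hw0 (zero_B h w fun x hx => hw ⟨x, hx⟩).symm

end Cfsg.Agent.AltSections.Two
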